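import Groth.Agent.DelIll.K977.DuLin
import Groth.Agent.CurvesB.UnitCoh
import Groth.Agent.Dcoh.DerSch
import Groth.Agent.S0998
import Groth.Agent.S1766
import Groth.Agent.S3635

/-!
# Serre duality over a self-injective Artinian local ring

`X` proper over a self-injective Artinian local ring `k`, smooth of relative dimension `n`, `W` an `n`-th exterior power
of `Ω_{X/k}`, `F` finite locally free.

* `nonempty_dual_equiv`: `H^p(X, F)^* = H^m(X, Hom(F, W))` for `m + p = n`;
* `dual_subsingleton`: `H^p(X, F)^* = 0` for `n < p`.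
-/

set_option autoImplicit false
universe u

open CategoryTheory CategoryTheory.Limits AlgebraicGeometry

attribute [local instance] HasDerivedCategory.standard

namespace K977.DuForm

open Groth.Agent Groth.Agent.CurvesC K977.DuRep K977.DuLin Groth.Agent.PerfA

variable (k : Type u) [CommRing k] (X : Scheme.{u}) [X.Over (Spec (CommRingCat.of k))]

attribute [local instance] LinMod.linearModules

/-- The data of duality exist for `X` proper over a Noetherian ring: `Rf_*` and `f^!` exist, `Rf_*` preserves `D_QCoh`,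
and `O` is in `D_QCoh(k)`. -/
theorem exists_data [IsNoetherianRing k] [IsProper (X ↘ Spec (CommRingCat.of k))] :
    ∃ (_ : DCoh.HasRpush (X ↘ Spec (CommRingCat.of k)))
      (h : DCoh.RpushPreservesQCoh (X ↘ Spec (CommRingCat.of k)))
      (_ : DCoh.HasShriek (X ↘ Spec (CommRingCat.of k)) h) (OY : DCoh.DQCoh (Spec (CommRingCat.of k))),
      Nonempty (OY.obj ≅ DCoh.inD (Spec (CommRingCat.of k))
        (Coh.structureModule (Spec (CommRingCat.of k)))) := by
  have hR := Dcoh.DerSch.hasRpush (X ↘ Spec (CommRingCat.of k))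
  have h : DCoh.RpushPreservesQCoh (X ↘ Spec (CommRingCat.of k)) := fun K hK =>
    S0998.result (X ↘ Spec (CommRingCat.of k)) K hK
  have hc : CompactSpace X := by
    have := QuasiCompact.compactSpace_of_compactSpace (X ↘ Spec (CommRingCat.of k))
    exact this
  have hq : QuasiSeparatedSpace X :=
    quasiSeparatedSpace_of_quasiSeparated (X ↘ Spec (CommRingCat.of k))
  have hN : IsLocallyNoetherian X := LocallyOfFiniteType.isLocallyNoetherian (X ↘ Spec (CommRingCat.of k))
  have hN' : IsNoetherian X := ⟨⟩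
  have hs : DCoh.HasShriek (X ↘ Spec (CommRingCat.of k)) h :=
    S1766.result X (Spec (CommRingCat.of k)) (X ↘ Spec (CommRingCat.of k)) h
  have hO : Coh.IsCoh (Coh.structureModule (Spec (CommRingCat.of k))) :=
    CurvesB.UnitCoh.isCoh_structureModule _
  exact ⟨hR, h, hs, ⟨DCoh.inD _ (Coh.structureModule (Spec (CommRingCat.of k))), QCohD.isQCohD_inD _ hO.1⟩,
    ⟨Iso.refl _⟩⟩

variable [IsLocalRing k] [IsArtinianRing k] (hI : Module.Injective k k)

include hI

/-- The duality pairing for the canonical sheaf. -/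
theorem exists_form [IsProper (X ↘ Spec (CommRingCat.of k))] (n : ℕ)
    [SmoothOfRelativeDimension n (X ↘ Spec (CommRingCat.of k))] (W : X.Modules)
    (hW : ExtPow.IsExtPow n (Omega.sheaf (X ↘ Spec (CommRingCat.of k))) W) :
    ∃ τ : (P X ⟶ (DCoh.inD X W)⟦(n : ℤ)⟧) →ₗ[k] k,
      ∀ K : DCoh.D X, DCoh.IsQCohD K → Function.Bijective (pairing k X τ K) := by
  have hsm : Smooth (X ↘ Spec (CommRingCat.of k)) :=
    SmoothOfRelativeDimension.smooth n (X ↘ Spec (CommRingCat.of k))
  have hfl : Flat (X ↘ Spec (CommRingCat.of k)) := inferInstance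
  obtain ⟨hR, h, hs, OY, hOY⟩ := exists_data k X
  obtain ⟨τ, hτ⟩ := DuLin.exists_form k X hI h OY hOY
  obtain ⟨e⟩ := S3635.result (Spec (CommRingCat.of k)) X n (X ↘ Spec (CommRingCat.of k)) h _
    (DCoh.shriekAdj (X ↘ Spec (CommRingCat.of k)) h) OY hOY W hW
  exact exists_form_of_iso k (W := DCoh.dualizingCx (X ↘ Spec (CommRingCat.of k)) h OY) e τ hτ

variable {X}

/-- **Serre duality** over a self-injective Artinian local ring. -/
theorem nonempty_dual_equiv [IsProper (X ↘ Spec (CommRingCat.of k))] (n : ℕ)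
    [SmoothOfRelativeDimension n (X ↘ Spec (CommRingCat.of k))] {W : X.Modules}
    (hW : ExtPow.IsExtPow n (Omega.sheaf (X ↘ Spec (CommRingCat.of k))) W) {F : X.Modules}
    (hF : FlatMod.IsFinLocFree F) [DCoh.HasSheafHom F] (m p : ℕ) (h : m + p = n) :
    Nonempty (Module.Dual k (Coh.HH X F p) ≃ₗ[k] Coh.HH X ((DCoh.sheafHom F).obj W) m) := by
  obtain ⟨τ, hτ⟩ := exists_form k X hI n W hW
  exact nonempty_dual_equiv_of_form k hF m p n h τ hτ

/-- Cohomology above the relative dimension. -/
theorem dual_subsingleton [IsProper (X ↘ Spec (CommRingCat.of k))] (n : ℕ)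
    [SmoothOfRelativeDimension n (X ↘ Spec (CommRingCat.of k))] {W : X.Modules}
    (hW : ExtPow.IsExtPow n (Omega.sheaf (X ↘ Spec (CommRingCat.of k))) W) {F : X.Modules}
    (hF : FlatMod.IsFinLocFree F) (p : ℕ) (h : n < p) :
    Subsingleton (Module.Dual k (Coh.HH X F p)) := by
  obtain ⟨τ, hτ⟩ := exists_form k X hI n W hW
  exact dual_subsingleton_of_form k hF p n h τ hτ

end K977.DuForm
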