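import Mathlib.RingTheory.Length
import Mathlib.RingTheory.FiniteLength
import Mathlib.RingTheory.Artinian.Ring
import Mathlib.RingTheory.HopkinsLevitzki
import Mathlib.Algebra.Module.Injective
import Mathlib.LinearAlgebra.Dual.Defs
import Mathlib.RingTheory.SimpleModule.Basic

/-!
# Duality preserves lengths over a self-injective Artinian local ring
-/

set_option autoImplicit false
universe u

namespace K977.DuLen

variable {A : Type u} [CommRing A] [IsLocalRing A] [IsArtinianRing A]

omit [IsLocalRing A] [IsArtinianRing A] in
/-- Functionals extend. -/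
theorem dualMap_surjective (hI : Module.Injective A A) {M : Type u} [AddCommGroup M] [Module A M]
    (N : Submodule A M) : Function.Surjective N.subtype.dualMap := by
  intro g
  obtain ⟨h, hh⟩ := hI.out N.subtype N.subtype_injective g
  exact ⟨h, LinearMap.ext hh⟩

omit [IsArtinianRing A] in
/-- A simple module is the residue field. -/
theorem exists_equiv (S : Type u) [AddCommGroup S] [Module A S] [IsSimpleModule A S] :
    Nonempty (S ≃ₗ[A] A ⧸ IsLocalRing.maximalIdeal A) := by
  obtain ⟨I, hI, ⟨e⟩⟩ := isSimpleModule_iff_quot_maximal.1 (‹_› : IsSimpleModule A S)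
  have h : I = IsLocalRing.maximalIdeal A := IsLocalRing.eq_maximalIdeal hI
  subst h
  exact ⟨e⟩

/-- A simple module has a nonzero functional. -/
theorem exists_ne_zero (S : Type u) [AddCommGroup S] [Module A S] [IsSimpleModule A S] :
    ∃ f : S →ₗ[A] A, f ≠ 0 := by
  obtain ⟨T, hT⟩ := IsAtomic.exists_atom (Submodule A A)
  have hs : IsSimpleModule A T := isSimpleModule_iff_isAtom.2 hT
  obtain ⟨e⟩ := exists_equiv (A := A) S
  obtain ⟨e'⟩ := exists_equiv (A := A) T
  refine ⟨T.subtype ∘ₗ (e.trans e'.symm).toLinearMap, fun h => ?_⟩
  have : Nontrivial S := IsSimpleModule.nontrivial A S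
  obtain ⟨s, hs⟩ := exists_ne (0 : S)
  have h1 : (e.trans e'.symm) s = 0 := T.subtype_injective (by
    rw [map_zero]
    exact LinearMap.congr_fun h s)
  exact hs ((LinearEquiv.map_eq_zero_iff _).1 h1)

/-- The dual of a simple module is simple. -/
theorem isSimple_dual (hI : Module.Injective A A) (S : Type u) [AddCommGroup S] [Module A S] [IsSimpleModule A S] :
    IsSimpleModule A (Module.Dual A S) := by
  rw [isSimpleModule_iff_toSpanSingleton_surjective]
  obtain ⟨f, hf⟩ := exists_ne_zero (A := A) S
  refine ⟨⟨f, 0, hf⟩, fun f hf g => ?_⟩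
  have hinj : Function.Injective f := (LinearMap.injective_or_eq_zero f).resolve_right hf
  obtain ⟨h, hh⟩ := hI.out f hinj g
  refine ⟨h 1, ?_⟩
  ext s
  change h 1 * f s = g s
  rw [← hh s, mul_comm, ← smul_eq_mul, ← map_smul, smul_eq_mul, mul_one]

/-- **Duality preserves lengths.** -/
theorem length_dual (hI : Module.Injective A A) {M : Type u} [AddCommGroup M] [Module A M] (hM : IsFiniteLength A M) :
    Module.length A (Module.Dual A M) = Module.length A M := by
  induction hM with
  | @of_subsingleton M _ _ _ =>
    have : Subsingleton (Module.Dual A M) := ⟨fun a b => LinearMap.ext fun x => by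
      rw [Subsingleton.elim x 0, map_zero, map_zero]⟩
    rw [Module.length_eq_zero, Module.length_eq_zero]
  | @of_simple_quotient M _ _ N hs hN ih =>
    have h1 : Module.length A M = Module.length A N + Module.length A (M ⧸ N) :=
      Module.length_eq_add_of_exact N.subtype N.mkQ N.subtype_injective N.mkQ_surjective
        (LinearMap.exact_subtype_mkQ N)
    have h2 : Module.length A (Module.Dual A M) =
        Module.length A (Module.Dual A (M ⧸ N)) + Module.length A (Module.Dual A N) := by
      refine Module.length_eq_add_of_exact N.mkQ.dualMap N.subtype.dualMap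
        (LinearMap.dualMap_injective_of_surjective N.mkQ_surjective) (dualMap_surjective hI N) ?_
      intro g
      constructor
      · intro hg
        have h3 : N ≤ LinearMap.ker g := fun x hx => LinearMap.congr_fun hg ⟨x, hx⟩
        exact ⟨N.liftQ g h3, LinearMap.ext fun x => rfl⟩
      · rintro ⟨h, rfl⟩
        ext x
        change h (N.mkQ x) = 0
        have h5 : N.mkQ (x : M) = 0 := (Submodule.Quotient.mk_eq_zero N).2 x.2
        rw [h5, map_zero]
    have h4 := isSimple_dual hI (M ⧸ N)
    rw [h1, h2, ih, Module.length_eq_one_iff.2 h4, Module.length_eq_one_iff.2 hs, add_comm]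

omit [IsLocalRing A] in
theorem isFiniteLength (M : Type u) [AddCommGroup M] [Module A M] [Module.Finite A M] : IsFiniteLength A M := by
  rw [isFiniteLength_iff_isNoetherian_isArtinian]
  exact ⟨isNoetherian_of_isNoetherianRing_of_finite A M, isArtinian_of_fg_of_artinian'⟩

/-- A finite module with zero dual is zero. -/
theorem subsingleton_of_dual (hI : Module.Injective A A) {M : Type u} [AddCommGroup M] [Module A M] [Module.Finite A M]
    (h : Subsingleton (Module.Dual A M)) : Subsingleton M := by
  rw [← Module.length_eq_zero_iff (R := A), ← length_dual hI (isFiniteLength M), Module.length_eq_zero]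

end K977.DuLen
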