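import Groth.Agent.DelIll.K977.DuTrace
import Groth.Agent.CurvesC.HomHV
import Groth.Agent.CurvesC.SingleTri
import Groth.Agent.Surf.K461.LFHom
import Groth.Agent.Fdesc.SubDer
import Groth.Agent.CohtopB.ExactDerAdj
import Groth.Agent.PerfA.QCohD
import Groth.Agent.Ega2.TensMon
import Groth.Agent.Ega2.QCohLocal
import Mathlib.Algebra.Homology.DerivedCategory.ExactFunctor
import Mathlib.CategoryTheory.Linear.LinearFunctor
import Mathlib.LinearAlgebra.Dual.Defs

/-!
# Duality for finite locally free modules over a self-injective Artinian local ring, linear form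

* `exists_form`: a linear form `τ` on `Hom_D(O_X, w)` with `Hom_D(K, w) = Hom_k(Hom_D(O_X, K), k)` for `K` in
  `D_QCoh(X)`;
* `nonempty_dual_equiv_of_form`: `H^p(X, F)^* = H^m(X, Hom(F, W))` for `F` finite locally free, `m + p = n`;
* `dual_subsingleton_of_form`: `H^p(X, F)^* = 0` for `n < p`.
-/

set_option autoImplicit false
universe u

open CategoryTheory CategoryTheory.Limits AlgebraicGeometry

attribute [local instance] HasDerivedCategory.standard

namespace K977.DuLin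

open Groth.Agent Groth.Agent.CurvesC K977.DuRep

variable (k : Type u) [CommRing k] (X : Scheme.{u}) [X.Over (Spec (CommRingCat.of k))]

attribute [local instance] LinMod.linearModules

/-- The linear map `φ ↦ (s ↦ τ (s ≫ φ))`. -/
noncomputable def pairing {W : DCoh.D X} (τ : (P X ⟶ W) →ₗ[k] k) (K : DCoh.D X) :
    (K ⟶ W) →ₗ[k] Module.Dual k (P X ⟶ K) where
  toFun φ := τ ∘ₗ Linear.rightComp k (P X) φ
  map_add' φ ψ := by
    ext s
    change τ (s ≫ (φ + ψ)) = τ (s ≫ φ) + τ (s ≫ ψ)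
    rw [Preadditive.comp_add, map_add]
  map_smul' a φ := by
    ext s
    change τ (s ≫ (a • φ)) = a • τ (s ≫ φ)
    rw [Linear.comp_smul, map_smul]

theorem pairing_apply {W : DCoh.D X} (τ : (P X ⟶ W) →ₗ[k] k) {K : DCoh.D X} (φ : K ⟶ W) (s : P X ⟶ K) :
    pairing k X τ K φ s = τ (s ≫ φ) := rfl

theorem rho_comp {K : DCoh.D X} (a : k) (s : P X ⟶ K) : rho k X a ≫ s = a • s := by
  rw [rho, LinMod.singleFunctor_map_smulMod, Linear.smul_comp, Category.id_comp]

theorem exists_form [IsLocalRing k] [IsArtinianRing k] (hI : Module.Injective k k)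
    [Flat (X ↘ Spec (CommRingCat.of k))] [DCoh.HasRpush (X ↘ Spec (CommRingCat.of k))]
    (h : DCoh.RpushPreservesQCoh (X ↘ Spec (CommRingCat.of k)))
    [DCoh.HasShriek (X ↘ Spec (CommRingCat.of k)) h]
    (OY : DCoh.DQCoh (Spec (CommRingCat.of k)))
    (hOY : Nonempty (OY.obj ≅ DCoh.inD (Spec (CommRingCat.of k))
      (Coh.structureModule (Spec (CommRingCat.of k))))) :
    ∃ τ : (P X ⟶ DCoh.dualizingCx (X ↘ Spec (CommRingCat.of k)) h OY) →ₗ[k] k,
      ∀ K : DCoh.D X, DCoh.IsQCohD K → Function.Bijective (pairing k X τ K) := by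
  obtain ⟨τ, hτ, hK⟩ := DuTrace.exists_pair k X hI h OY hOY
  refine ⟨{ toFun := τ, map_add' := map_add τ, map_smul' := fun a s => ?_ }, fun K hKq => ⟨?_, ?_⟩⟩
  · rw [← rho_comp]
    exact hτ a s
  · intro φ ψ hφ
    have h1 : ∀ s : P X ⟶ K, τ (s ≫ φ) = τ (s ≫ ψ) := fun s => LinearMap.congr_fun hφ s
    obtain ⟨θ, -, hu⟩ := hK K hKq
      { toFun := fun s => τ (s ≫ φ)
        map_zero' := by rw [zero_comp, map_zero]
        map_add' := fun s t => by rw [Preadditive.add_comp, map_add] }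
      (fun a s => by
        change τ ((rho k X a ≫ s) ≫ φ) = a * τ (s ≫ φ)
        rw [Category.assoc]
        exact hτ a _)
    exact (hu φ (fun s => rfl)).trans (hu ψ h1).symm
  · intro ψ
    obtain ⟨θ, hθ, -⟩ := hK K hKq ψ.toAddMonoidHom (fun a s => by
      rw [rho_comp]
      exact map_smul ψ a s)
    refine ⟨θ, ?_⟩
    ext s
    exact (hθ s).symm

/-- `Hom_{D(X)}(O_X, F[n]) = H^n(X, F)`, linear version. -/
noncomputable def homHVₗ (F : X.Modules) (n : ℕ) : (P X ⟶ (DCoh.inD X F)⟦(n : ℤ)⟧) ≃ₗ[k] HV X F n :=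
  { HomHV.homHV F n with
    map_smul' := fun a s => by
      change HomHV.homHV F n (a • s) = a • HomHV.homHV F n s
      rw [← rho_comp]
      exact HomHV.homHV_smul k a F n s }

theorem homHVₗ_map {F G : X.Modules} (φ : F ⟶ G) (n : ℕ) (s : P X ⟶ (DCoh.inD X F)⟦(n : ℤ)⟧) :
    homHVₗ k X G n (s ≫ ((DerivedCategory.singleFunctor X.Modules 0).map φ)⟦(n : ℤ)⟧') =
      HV.map k φ n (homHVₗ k X F n s) := HomHV.homHV_map k φ n s

section

variable {W : DCoh.D X} (d : ℕ)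

/-- The shifted form: maps `F[d] ⟶ w[d]` are maps `F ⟶ w`. -/
theorem shift_map_bijective (F w : X.Modules) : Function.Bijective (fun φ : F ⟶ w =>
    (((DerivedCategory.singleFunctor X.Modules 0).map φ)⟦(d : ℤ)⟧' :
      (DCoh.inD X F)⟦(d : ℤ)⟧ ⟶ (DCoh.inD X w)⟦(d : ℤ)⟧)) := by
  have h1 : Function.Bijective (fun φ : F ⟶ w => (DerivedCategory.singleFunctor X.Modules 0).map φ) :=
    ⟨Functor.map_injective _, Functor.map_surjective _⟩
  have h2 : Function.Bijective (fun φ : DCoh.inD X F ⟶ DCoh.inD X w =>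
    (shiftFunctor (DCoh.D X) (d : ℤ)).map φ) := ⟨Functor.map_injective _, Functor.map_surjective _⟩
  exact h2.comp h1

theorem isLE_shift (F : X.Modules) (n : ℤ) : ((DCoh.inD X F)⟦n⟧).IsLE (-n) :=
  DerivedCategory.TStructure.t.isLE_shift _ 0 n (-n) (by lia)

/-- If `w[d] ⟶ W` is bijective on maps from objects in degrees `≤ -d`, the form on `Hom(O_X, W)` gives a form
on `H^d(X, w)` which represents the dual of `F ↦ H^d(X, F)`. -/
theorem exists_unique_of_form (τ : (P X ⟶ W) →ₗ[k] k) (w : X.Modules)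
    (ι : (DCoh.inD X w)⟦(d : ℤ)⟧ ⟶ W)
    (hι : ∀ K : DCoh.D X, K.IsLE (-(d : ℤ)) → Function.Bijective
      (fun s : K ⟶ (DCoh.inD X w)⟦(d : ℤ)⟧ => s ≫ ι))
    (F : X.Modules) (hF : Function.Bijective (pairing k X τ ((DCoh.inD X F)⟦(d : ℤ)⟧))) :
    Function.Bijective (fun φ : F ⟶ w => (τ ∘ₗ Linear.rightComp k (P X) ι ∘ₗ
      (homHVₗ k X w d).symm.toLinearMap) ∘ₗ HV.map k φ d) := by
  have h1 := hF.comp ((hι _ (isLE_shift X F d)).comp (shift_map_bijective X d F w))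
  have h2 : Function.Bijective (fun ψ : Module.Dual k (P X ⟶ (DCoh.inD X F)⟦(d : ℤ)⟧) =>
      ψ ∘ₗ (homHVₗ k X F d).symm.toLinearMap) := by
    refine ⟨fun a b hab => ?_, fun ψ => ⟨ψ ∘ₗ (homHVₗ k X F d).toLinearMap, ?_⟩⟩
    · ext s
      have := LinearMap.congr_fun hab (homHVₗ k X F d s)
      simpa using this
    · ext s
      simp
  have h3 := h2.comp h1
  have h4 : (fun φ : F ⟶ w => (τ ∘ₗ Linear.rightComp k (P X) ι ∘ₗ
      (homHVₗ k X w d).symm.toLinearMap) ∘ₗ HV.map k φ d) =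
      (fun ψ : Module.Dual k (P X ⟶ (DCoh.inD X F)⟦(d : ℤ)⟧) =>
      ψ ∘ₗ (homHVₗ k X F d).symm.toLinearMap) ∘ (pairing k X τ ((DCoh.inD X F)⟦(d : ℤ)⟧)) ∘
        (fun s => s ≫ ι) ∘ (fun φ : F ⟶ w =>
    (((DerivedCategory.singleFunctor X.Modules 0).map φ)⟦(d : ℤ)⟧' :
      (DCoh.inD X F)⟦(d : ℤ)⟧ ⟶ (DCoh.inD X w)⟦(d : ℤ)⟧)) := by
    funext φ
    ext x
    obtain ⟨s, rfl⟩ := (homHVₗ k X F d).surjective x
    change τ ((homHVₗ k X w d).symm (HV.map k φ d (homHVₗ k X F d s)) ≫ ι) =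
      τ ((homHVₗ k X F d).symm (homHVₗ k X F d s) ≫
        (((DerivedCategory.singleFunctor X.Modules 0).map φ)⟦(d : ℤ)⟧' ≫ ι))
    rw [← homHVₗ_map, LinearEquiv.symm_apply_apply, LinearEquiv.symm_apply_apply, Category.assoc]
  rw [h4]
  exact h3

end

section Form

variable {X}

/-- transport of the form along an isomorphism -/
theorem exists_form_of_iso {W W' : DCoh.D X} (e : W ≅ W') (τ : (P X ⟶ W) →ₗ[k] k)
    (hτ : ∀ K : DCoh.D X, DCoh.IsQCohD K → Function.Bijective (pairing k X τ K)) :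
    ∃ τ' : (P X ⟶ W') →ₗ[k] k, ∀ K : DCoh.D X, DCoh.IsQCohD K → Function.Bijective (pairing k X τ' K) := by
  refine ⟨τ ∘ₗ Linear.rightComp k (P X) e.inv, fun K hK => ?_⟩
  have h1 : Function.Bijective (fun φ : K ⟶ W' => φ ≫ e.inv) := e.symm.homToEquiv.bijective
  convert (hτ K hK).comp h1 using 1
  funext φ
  ext s
  change τ ((s ≫ φ) ≫ e.inv) = τ (s ≫ φ ≫ e.inv)
  rw [Category.assoc]

/-- shifting is a linear equivalence on morphisms -/
noncomputable def shiftE (K L : DCoh.D X) (n : ℤ) : (K ⟶ L) ≃ₗ[k] (K⟦n⟧ ⟶ L⟦n⟧) :=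
  LinearEquiv.ofBijective (Functor.mapLinearMap k (shiftFunctor (DCoh.D X) n))
    ⟨(shiftFunctor (DCoh.D X) n).map_injective, (shiftFunctor (DCoh.D X) n).map_surjective⟩

/-- `Hom_D(F, w[m]) = Hom_D(F[p], w[n])` for `m + p = n` -/
noncomputable def homShiftE (F W : X.Modules) (m p n : ℤ) (h : m + p = n) :
    (DCoh.inD X F ⟶ (DCoh.inD X W)⟦m⟧) ≃ₗ[k] ((DCoh.inD X F)⟦p⟧ ⟶ (DCoh.inD X W)⟦n⟧) :=
  (shiftE k _ _ p).trans (Linear.homCongr k (Iso.refl _) ((shiftFunctorAdd' (DCoh.D X) m p n h).symm.app _))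

/-- `H^p(X, F)^* = Hom_D(F, w[m])`, `m + p = n`. -/
theorem dual_equiv_hom {W F : X.Modules} (m p n : ℕ) (h : m + p = n)
    (τ : (P X ⟶ (DCoh.inD X W)⟦(n : ℤ)⟧) →ₗ[k] k)
    (hF : Function.Bijective (pairing k X τ ((DCoh.inD X F)⟦(p : ℤ)⟧))) :
    Nonempty ((DCoh.inD X F ⟶ (DCoh.inD X W)⟦(m : ℤ)⟧) ≃ₗ[k] Module.Dual k (HV X F p)) :=
  ⟨(homShiftE k F W m p n (by lia)).trans ((LinearEquiv.ofBijective _ hF).trans
    (homHVₗ k X F p).symm.dualMap)⟩

end Form

section LF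

open K461.LFHom CohqB.HomSheaf Sga2.PnHomAdj Opposite TopologicalSpace

variable {X}

theorem homMapRight_smulMod (F N : X.Modules) (a : k) :
    homMapRight F (Formal.smulMod k N a) = Formal.smulMod k (homSheaf F N) a := by
  ext U s
  apply sec_ext
  intro V hV m
  rw [comp_homMapRight, FormalB.ModPow.smulMod_app, FormalB.ModPow.smulMod_app]
  rw [comp_smul, LinearMap.smul_apply]
  congr 1
  exact congrArg (fun z => (CommRingCat.Hom.hom z) (Coh.toGlobal (X ↘ Spec (CommRingCat.of k)) a))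
    (X.presheaf.map_comp (homOfLE (le_top : U ≤ ⊤)).op (homOfLE hV).op)

theorem linear_sheafHom (F : X.Modules) [DCoh.HasSheafHom F] : (DCoh.sheafHom F).Linear k := by
  have : (homF F).Linear k :=
    { map_smul := fun {M N} φ a => by
        rw [CurvesC.LinMod.smul_def, CurvesC.LinMod.smul_def, Functor.map_comp]
        congr 1
        exact homMapRight_smulMod k F N a }
  exact Functor.linear_of_iso k (sheafHomIso F).symm

end LF

section LF2

variable {X}

/-- `Hom_D(T M, K[n]) = Hom_D(M, (R K)[n])` for an adjunction `T ⊣ R` of exact functors, linear version. -/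
noncomputable def homEquivₗ {T R : X.Modules ⥤ X.Modules} (adj : T ⊣ R) [T.Additive] [R.Additive]
    [PreservesFiniteLimits T] [PreservesFiniteColimits T] [PreservesFiniteLimits R] [PreservesFiniteColimits R]
    [R.Linear k] (M : X.Modules) (K : DCoh.D X) (n : ℤ) :
    (DCoh.inD X (T.obj M) ⟶ K⟦n⟧) ≃ₗ[k] (DCoh.inD X M ⟶ (R.mapDerivedCategory.obj K)⟦n⟧) :=
  { CohtopB.ExactDerAdj.homEquivSingle adj M K n with
    map_smul' := fun a f => by
      change (CohtopB.ExactDerAdj.derivedAdj adj).homEquiv _ _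
          ((T.mapDerivedCategorySingleFunctor 0).hom.app M ≫ (a • f)) ≫
        (R.mapDerivedCategory.commShiftIso n).hom.app K = a • ((CohtopB.ExactDerAdj.derivedAdj adj).homEquiv _ _
          ((T.mapDerivedCategorySingleFunctor 0).hom.app M ≫ f) ≫
        (R.mapDerivedCategory.commShiftIso n).hom.app K)
      rw [Linear.comp_smul, Adjunction.homEquiv_unit, Adjunction.homEquiv_unit, Functor.map_smul, Linear.comp_smul,
        Linear.smul_comp] }

/-- `Hom_D(F, W[m]) = H^m(X, Hom(F, W))` for `F` finite locally free. -/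
theorem nonempty_hom_equiv {F : X.Modules} (hF : FlatMod.IsFinLocFree F) [DCoh.HasSheafHom F] (W : X.Modules) (m : ℕ) :
    Nonempty ((DCoh.inD X F ⟶ (DCoh.inD X W)⟦(m : ℤ)⟧) ≃ₗ[k] HV X ((DCoh.sheafHom F).obj W) m) := by
  have h1 := K461.LFHom.preservesFiniteLimits_tensorBi hF
  have h2 : PreservesFiniteColimits ((DCoh.tensorBi (X := X)).obj F) := by
    have := (DCoh.sheafHomAdj F).leftAdjoint_preservesColimits.{0, 0}
    exact PreservesColimitsOfSize.preservesFiniteColimits.{0, 0} _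
  have h3 := K461.LFHom.preservesFiniteColimits_sheafHom hF
  have h4 := linear_sheafHom k F
  let R := DCoh.sheafHom F
  let i1 : ((DCoh.tensorBi (X := X)).obj F).obj (Coh.structureModule X) ≅ F := Ega2.Tens.runit F
  let i2 : R.mapDerivedCategory.obj (DCoh.inD X W) ≅ DCoh.inD X (R.obj W) :=
    (R.mapDerivedCategorySingleFunctor 0).app W
  let E1 := homEquivₗ k (DCoh.sheafHomAdj F) (Coh.structureModule X) (DCoh.inD X W) (m : ℤ)
  exact ⟨(Linear.homCongr k ((DerivedCategory.singleFunctor X.Modules 0).mapIso i1.symm) (Iso.refl _)).trans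
    (E1.trans ((Linear.homCongr k (Iso.refl _) ((shiftFunctor (DCoh.D X) (m : ℤ)).mapIso i2)).trans
      (homHVₗ k X (R.obj W) m)))⟩

theorem nonempty_dual_equiv_of_form {W F : X.Modules} (hF : FlatMod.IsFinLocFree F) [DCoh.HasSheafHom F]
    (m p n : ℕ) (h : m + p = n) (τ : (P X ⟶ (DCoh.inD X W)⟦(n : ℤ)⟧) →ₗ[k] k)
    (hτ : ∀ K : DCoh.D X, DCoh.IsQCohD K → Function.Bijective (pairing k X τ K)) :
    Nonempty (Module.Dual k (Coh.HH X F p) ≃ₗ[k] Coh.HH X ((DCoh.sheafHom F).obj W) m) := by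
  obtain ⟨E1⟩ := nonempty_hom_equiv k hF W m
  obtain ⟨E2⟩ := dual_equiv_hom k m p n h τ
    (hτ _ (PerfA.QCohD.isQCohD_shift (PerfA.QCohD.isQCohD_inD F (Ega2.QCohLocal.isQCoh_of_isFinLocFree hF)) (p : ℤ)))
  exact ⟨((HV.equiv k F p).dualMap).trans (E2.symm.trans (E1.trans (HV.equiv k _ m)))⟩

/-- Cohomology above the dimension is killed by dualizing. -/
theorem dual_subsingleton_of_form {W F : X.Modules} (hF : FlatMod.IsFinLocFree F) (p n : ℕ) (h : n < p)
    (τ : (P X ⟶ (DCoh.inD X W)⟦(n : ℤ)⟧) →ₗ[k] k)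
    (hτ : ∀ K : DCoh.D X, DCoh.IsQCohD K → Function.Bijective (pairing k X τ K)) :
    Subsingleton (Module.Dual k (Coh.HH X F p)) := by
  have h1 : Subsingleton ((DCoh.inD X F)⟦(p : ℤ)⟧ ⟶ (DCoh.inD X W)⟦(n : ℤ)⟧) := by
    refine ⟨fun a b => ?_⟩
    have hz : ∀ c : (DCoh.inD X F)⟦(p : ℤ)⟧ ⟶ (DCoh.inD X W)⟦(n : ℤ)⟧, c = 0 := by
      intro c
      have hge : ((DCoh.inD X W)⟦(n : ℤ)⟧).IsGE (-(n : ℤ)) :=
        DerivedCategory.TStructure.t.isGE_shift _ 0 (n : ℤ) (-(n : ℤ)) (by lia)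
      have hle := isLE_shift X F (p : ℤ)
      exact DerivedCategory.TStructure.t.zero c (-(p : ℤ)) (-(n : ℤ)) (by lia)
    rw [hz a, hz b]
  have h2 := hτ _ (PerfA.QCohD.isQCohD_shift (PerfA.QCohD.isQCohD_inD F
    (Ega2.QCohLocal.isQCoh_of_isFinLocFree hF)) (p : ℤ))
  have h3 : Subsingleton (Module.Dual k (P X ⟶ (DCoh.inD X F)⟦(p : ℤ)⟧)) :=
    (Equiv.ofBijective _ h2).symm.subsingleton
  exact ((HV.equiv k F p).symm.dualMap.symm.trans (homHVₗ k X F p).dualMap).toEquiv.subsingleton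

end LF2

end K977.DuLin
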