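import Groth.Agent.DeRhamSh.K854.WedgePerf
import Groth.Agent.Sga67.LocBasisOps
import Groth.Agent.Sga67.ExtSheaf
import Groth.Agent.LoccohB.GlueHom
import Groth.Agent.Ega4dA.FrameQC
import Groth.Agent.Sga2.PnHomAdj
import Groth.Agent.CohqB.HomSheafQCoh
import Groth.Agent.Ega2.BasSec
import Groth.Agent.Deform.K681.HhLin

/-!
# The wedge pairing of exterior powers

`nonempty_iso`: `Λ^a E ≅ Hom(Λ^b E, Λ^c E)` for `E` finite locally free of rank `c = b + a`.
-/

set_option autoImplicit false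
universe u

open CategoryTheory CategoryTheory.Limits AlgebraicGeometry Opposite TopologicalSpace
open scoped TensorProduct
open Groth.Agent Groth.Agent.Sga67.ExtAlg
open Groth.Agent.Sga67.ExtSheaf (Phi PhiComp)

namespace K977.DuWedge

variable {X : Scheme.{u}}

/-- Identifications of sections with exterior powers over affine opens. -/
abbrev Loc (i : ℕ) (E L : X.Modules) : Type u :=
  ∀ U : X.affineOpens, Γ(L, U.1) ≃ₗ[Γ(X, U.1)] ↥(⋀[Γ(X, U.1)]^i Γ(E, U.1))

/-- Compatibility with restriction. -/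
abbrev LocComp {i : ℕ} {E L : X.Modules} (l : Loc i E L) : Prop :=
  ∀ (U V : X.affineOpens) (h : V.1 ≤ U.1) (e : Fin i → Γ(E, U.1)),
    L.val.map (homOfLE h).op ((l U).symm (exteriorPower.ιMulti _ i e)) =
      (l V).symm (exteriorPower.ιMulti _ i (fun j => E.val.map (homOfLE h).op (e j)))

theorem exists_loc {i : ℕ} {E L : X.Modules} (h : ExtPow.IsExtPow i E L) : ∃ l : Loc i E L, LocComp l := h

variable {E Ma Mb Mc : X.Modules} {a b c : ℕ} (la : Loc a E Ma) (lb : Loc b E Mb) (lc : Loc c E Mc)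

/-- The identifications over affine opens. -/
noncomputable def phi {p : ℕ} {L : X.Modules} (l : Loc p E L) : Phi p E L := fun V => l V

theorem phi_comp {p : ℕ} {L : X.Modules} {l : Loc p E L} (h : LocComp l) : PhiComp (phi l) :=
  fun U V hUV e => h U V hUV e

theorem wedge_phi (h : b + a = c) (V : X.affineOpens) (s : Γ(Mb, V.1)) (t : Γ(Ma, V.1)) :
    (wedge h (phi lb V s) (phi la V t)).1 = (wedge h (lb V s) (la V t)).1 := by
  rw [coe_wedge, coe_wedge]
  rfl

theorem phi_coe {p : ℕ} {L : X.Modules} (l : Loc p E L) (V : X.affineOpens) (s : Γ(L, V.1)) :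
    (phi l V s).1 = (l V s).1 := rfl

variable {la lb lc} (hla : LocComp la) (hlb : LocComp lb) (hlc : LocComp lc)

include hla hlb hlc in
theorem exists_wed (h : b + a = c) : ∃ m : CohB1.tensorMod Mb Ma ⟶ Mc,
    ∀ (V : X.affineOpens) (s : Γ(Mb, V.1)) (t : Γ(Ma, V.1)),
      lc V (m.app V.1 (Ega2.Tens.tmul s t)) = wedge h (lb V s) (la V t) := by
  obtain ⟨m, hm⟩ := Sga67.ExtSheaf.exists_extMul h (𝟙 E) (phi lb) (phi_comp hlb) (phi la) (phi_comp hla)
    (phi lc) (phi_comp hlc)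
  refine ⟨m, fun V s t => ?_⟩
  have h1 : Sga67.Sec.appS (𝟙 E) V.1 = LinearMap.id := rfl
  have h2 := mu_tmul h (Sga67.Sec.appS (𝟙 E) V.1) (phi lb V s) (phi la V t)
  have h3 : exteriorPower.map b (Sga67.Sec.appS (𝟙 E) V.1) (phi lb V s) = phi lb V s := by
    rw [h1, exteriorPower.map_id, LinearMap.id_apply]
  rw [h3] at h2
  have h4 : phi lc V (Sga67.Sec.appS m V.1 (Sga67.Sec.tau Mb Ma V.1 (s ⊗ₜ t))) =
    wedge h (phi lb V s) (phi la V t) := (hm V (s ⊗ₜ t)).trans h2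
  have h6 : (phi lc V (m.app V.1 (Ega2.Tens.tmul s t))) =
    (phi lc V (Sga67.Sec.appS m V.1 (Sga67.Sec.tau Mb Ma V.1 (s ⊗ₜ t)))) := rfl
  exact Subtype.ext ((phi_coe lc V _).symm.trans ((congrArg Subtype.val (h6.trans h4)).trans (wedge_phi la lb h V s t)))

section

variable {h : b + a = c} (w : CohB1.tensorMod Mb Ma ⟶ Mc)

/-- The product of sections. -/
noncomputable def wd (V : X.Opens) (s : Γ(Mb, V)) (t : Γ(Ma, V)) : Γ(Mc, V) := w.app V (Ega2.Tens.tmul s t)

variable {V : X.Opens}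

theorem wd_add_left (s s' : Γ(Mb, V)) (t : Γ(Ma, V)) : wd w V (s + s') t = wd w V s t + wd w V s' t := by
  unfold wd
  rw [Ega2.Tens.add_tmul, map_add]

theorem wd_add_right (s : Γ(Mb, V)) (t t' : Γ(Ma, V)) : wd w V s (t + t') = wd w V s t + wd w V s t' := by
  unfold wd
  rw [Ega2.Tens.tmul_add, map_add]

theorem wd_smul_left (r : Γ(X, V)) (s : Γ(Mb, V)) (t : Γ(Ma, V)) : wd w V (r • s) t = r • wd w V s t := by
  unfold wd
  rw [Ega2.Tens.smul_tmul, Scheme.Modules.Hom.app_smul]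

theorem wd_smul_right (r : Γ(X, V)) (s : Γ(Mb, V)) (t : Γ(Ma, V)) : wd w V s (r • t) = r • wd w V s t := by
  unfold wd
  rw [Ega2.Tens.tmul_smul, Scheme.Modules.Hom.app_smul]

/-- The product as a bilinear map. -/
noncomputable def wdₗ (V : X.Opens) : Γ(Mb, V) →ₗ[Γ(X, V)] Γ(Ma, V) →ₗ[Γ(X, V)] Γ(Mc, V) :=
  LinearMap.mk₂ _ (wd w V) (wd_add_left w) (wd_smul_left w) (wd_add_right w) (wd_smul_right w)

/-- `Λ^a ⟶ Hom(Λ^b, Λ^c)`, `x ↦ (m ↦ m ∧ x)`. -/
noncomputable def beta : Ma ⟶ CohqB.HomSheaf.homSheaf Mb Mc := Sga2.PnHomAdj.curry w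

theorem comp_beta (x : Γ(Ma, V)) {V' : X.Opens} (hV' : V' ≤ V) (m : Γ(Mb, V')) :
    CohqB.HomSheaf.comp ((beta w).app V x) V' hV' m = wd w V' m (LoccohB.GlueHom.res Ma hV' x) :=
  Sga2.PnHomAdj.comp_curry _ _ _ _ _

end

open Sga67.LocBasis in
/-- **The wedge pairing into the top power is perfect.** -/
theorem isIso_beta (h : b + a = c) (hE : FlatMod.IsFinLocFreeOfRank c E) (hMb : ExtPow.IsExtPow b E Mb)
    (w : CohB1.tensorMod Mb Ma ⟶ Mc) (hw : ∀ (V : X.affineOpens) (s : Γ(Mb, V.1)) (t : Γ(Ma, V.1)),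
      lc V (w.app V.1 (Ega2.Tens.tmul s t)) = wedge h (lb V s) (la V t)) : IsIso (beta w) := by
  have hb : Coh.IsQCoh Mb := by
    have h1 : FlatMod.IsFinLocFree E := fun x => by
      obtain ⟨W, hxW, hW⟩ := hE x
      exact ⟨W, c, hxW, hW⟩
    exact Ega4dA.FrameQC.isQCoh_of_isFinLocFree (Sga67.LocBasis.isFinLocFree_of_isExtPow h1 hMb)
  refine isIso_of_bijective _ fun x U hxU => ?_
  obtain ⟨W, hxW, hW⟩ := hE x
  obtain ⟨e, he⟩ := (Ega2.BasSec.nonempty_restrict_iso_freeMod_iff E c W).mp hW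
  obtain ⟨V, hV, hxV, hVle⟩ := (Opens.isBasis_iff_nbhd.mp X.isBasis_affineOpens)
    (show x ∈ W ⊓ U from ⟨hxW, hxU⟩)
  refine ⟨V, hVle.trans inf_le_right, hxV, ?_⟩
  have heV : Ega2.BasSec.IsBas (fun i => Fdesc.LocGen.res E (hVle.trans inf_le_left) (e i)) := he.res _
  -- the basis of sections
  let L : (Fin c → Γ(X, V)) →ₗ[Γ(X, V)] Γ(E, V) :=
    { toFun := Ega2.BasSec.comb (fun i => Fdesc.LocGen.res E (hVle.trans inf_le_left) (e i))
      map_add' := fun a b => by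
        simp only [Ega2.BasSec.comb, Pi.add_apply, add_smul, Finset.sum_add_distrib]
      map_smul' := fun r a => by
        simp only [Ega2.BasSec.comb, Pi.smul_apply, smul_eq_mul, mul_smul, Finset.smul_sum, RingHom.id_apply] }
  have hL : Function.Bijective L := by
    have h1 := heV V le_rfl
    have h2 : (L : (Fin c → Γ(X, V)) → Γ(E, V)) = Ega2.BasSec.comb (fun i => Fdesc.LocGen.res E le_rfl
        (Fdesc.LocGen.res E (hVle.trans inf_le_left) (e i))) := by
      funext a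
      change Ega2.BasSec.comb _ a = _
      simp only [Fdesc.LocGen.res_res]
    rw [h2]
    exact h1
  let B : Module.Basis (Fin c) Γ(X, V) Γ(E, V) := Module.Basis.ofEquivFun (LinearEquiv.ofBijective L hL).symm
  have hperf := K854.WedgePerf.bijective_wedge_flip B h (Fintype.card_fin c)
  let E₁ := CohqB.HomSheaf.affineEquiv (N := Mc) hb hV
  have hE₁ : ∀ t : Γ(Ma, V), E₁ ((beta w).app V t) = (wdₗ w V).flip t := by
    intro t
    refine LinearMap.ext fun m => ?_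
    refine (comp_beta w t le_rfl m).trans ?_
    rw [LoccohB.GlueHom.res_self]
    rfl
  have hw' : ∀ t : Γ(Ma, V), ∀ m, lc ⟨V, hV⟩ ((wdₗ w V).flip t m) =
      (wedge h).flip (la ⟨V, hV⟩ t) (lb ⟨V, hV⟩ m) := fun t m => hw ⟨V, hV⟩ m t
  have key : Function.Bijective (fun t : Γ(Ma, V) => (wdₗ w V).flip t) := by
    constructor
    · intro t t' htt
      apply (la ⟨V, hV⟩).injective
      apply hperf.1
      refine LinearMap.ext fun m => ?_
      obtain ⟨m, rfl⟩ := (lb ⟨V, hV⟩).surjective m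
      rw [← hw', ← hw']
      exact congrArg _ (LinearMap.congr_fun htt m)
    · intro g
      obtain ⟨y, hy⟩ := hperf.2 ((lc ⟨V, hV⟩).toLinearMap ∘ₗ g ∘ₗ (lb ⟨V, hV⟩).symm.toLinearMap)
      refine ⟨(la ⟨V, hV⟩).symm y, ?_⟩
      refine LinearMap.ext fun m => ?_
      apply (lc ⟨V, hV⟩).injective
      refine (hw' _ _).trans ?_
      rw [LinearEquiv.apply_symm_apply, hy]
      simp
  have h3 : Function.Bijective (fun t => E₁ ((beta w).app V t)) := by
    have : (fun t => E₁ ((beta w).app V t)) = (fun t : Γ(Ma, V) => (wdₗ w V).flip t) := funext hE₁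
    rw [this]
    exact key
  exact (Function.Bijective.of_comp_iff' E₁.bijective _).mp h3

/-- `Λ^a E ≅ Hom(Λ^b E, Λ^c E)` for `E` of rank `c = b + a`. -/
theorem nonempty_iso (h : b + a = c) (hE : FlatMod.IsFinLocFreeOfRank c E) (hMa : ExtPow.IsExtPow a E Ma)
    (hMb : ExtPow.IsExtPow b E Mb) (hMc : ExtPow.IsExtPow c E Mc) [DCoh.HasSheafHom Mb] :
    Nonempty ((DCoh.sheafHom Mb).obj Mc ≅ Ma) := by
  obtain ⟨la, hla⟩ := exists_loc hMa
  obtain ⟨lb, hlb⟩ := exists_loc hMb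
  obtain ⟨lc, hlc⟩ := exists_loc hMc
  obtain ⟨w, hw⟩ := exists_wed hla hlb hlc h
  have := isIso_beta h hE hMb w hw
  exact ⟨K681.HhLin.isoHom Mb Mc ≪≫ (asIso (beta w)).symm⟩

end K977.DuWedge
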