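import Groth.Agent.DelIll.K776.Intf
import Groth.Agent.DelIll.K977.DuForm
import Groth.Agent.DelIll.K977.DuLen
import Groth.Agent.DelIll.K977.DuWedge
import Groth.Agent.S0002
import Groth.Agent.Krr.H495.Rank
import Groth.Agent.Dual.H339.OmegaRank
import Groth.Agent.Fga.EulerIso

/-!
# Duality of Hodge cohomology over a self-injective Artinian local ring

`main : K776.Intf.DualStmt`.
-/

set_option autoImplicit false
universe u

open CategoryTheory CategoryTheory.Limits AlgebraicGeometry

namespace K977.DuMain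

open Groth.Agent

theorem main : K776.Intf.DualStmt.{u} := by
  intro A _ _ _ hI d Y q _ _ Om hOm
  let _ : Y.Over (Spec (CommRingCat.of A)) := ⟨q⟩
  have h1 : IsProper (Y ↘ Spec (CommRingCat.of A)) := inferInstanceAs (IsProper q)
  have h2 : SmoothOfRelativeDimension d (Y ↘ Spec (CommRingCat.of A)) :=
    inferInstanceAs (SmoothOfRelativeDimension d q)
  have hΩ : FlatMod.IsFinLocFreeOfRank d (Omega.sheaf q) := Dual.H339.OmegaRank.isFinLocFreeOfRank_omega d q
  have hrk : ∀ a, FlatMod.IsFinLocFreeOfRank (d.choose a) (Om a) := fun a => Krr.H495.Rank.rank_extPow hΩ (hOm a)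
  have hlf : ∀ a, FlatMod.IsFinLocFree (Om a) := fun a => Krr.H495.Rank.isFinLocFree_of_rank (hrk a)
  have hfin : ∀ a j, Module.Finite A (Coh.HH Y (Om a) j) := fun a j =>
    S0002.result A Y (Om a) (PerfA.CohSerre.isCoh_of_isFinLocFree (hlf a)) j
  refine ⟨fun a a' j j' ha hj => ?_, fun a j h => ?_⟩
  · change Module.length A (Coh.HH Y (Om a) j) = Module.length A (Coh.HH Y (Om a') j')
    have hsh : DCoh.HasSheafHom (Om a) := Sga2.PnHomAdj.hasSheafHom _
    obtain ⟨e⟩ := K977.DuForm.nonempty_dual_equiv A hI d (hOm d) (hlf a) j' j (by omega)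
    obtain ⟨e'⟩ := K977.DuWedge.nonempty_iso ha hΩ (hOm a') (hOm a) (hOm d)
    have e'' := Fga.EulerIso.HHequiv A e' j'
    rw [← K977.DuLen.length_dual hI (K977.DuLen.isFiniteLength (Coh.HH Y (Om a) j)), e.length_eq, e''.length_eq]
  · rcases h with h | h
    · have h3 := hrk a
      rw [Nat.choose_eq_zero_of_lt h] at h3
      have h4 := Krr.H495.Rank.isZero_of_rank_zero h3
      refine ⟨fun x y => ?_⟩
      have h5 : ∀ z : Coh.HH Y (Om a) j, z = 0 := by
        intro z
        have h6 : (𝟙 (Om a)) = 0 := h4.eq_of_src _ _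
        have h7 := CurvesC.HV.map_id (A := A) (F := Om a) j
        rw [h6, CurvesC.HV.map_zero] at h7
        exact (LinearMap.congr_fun h7 z).symm
      rw [h5 x, h5 y]
    · exact K977.DuLen.subsingleton_of_dual hI
        (K977.DuForm.dual_subsingleton A hI d (hOm d) (hlf a) j h)

end K977.DuMain
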