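import Mathlib.AlgebraicGeometry.Modules.Tilde
import Mathlib.Algebra.Category.ModuleCat.Injective
import Mathlib.CategoryTheory.Preadditive.Injective.Basic
import Mathlib.RingTheory.Artinian.Ring
import Groth.Prelude.Def_DDual2
import Groth.Prelude.Def_Formal
import Groth.Agent.CurvesC.ProjRep
import Groth.Agent.Ega3B.TensorAUnit

/-!
# Modules on the spectrum of an Artinian local ring

`k` an Artinian local ring: every `O_{Spec k}`-module is the tilde of its global sections, the structure sheaf is
injective if `k` is self-injective, and `O` represents `K ↦ Γ(Spec k, H^0 K)` on the derived category.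
-/

set_option autoImplicit false
universe u

open CategoryTheory CategoryTheory.Limits AlgebraicGeometry Opposite TopologicalSpace

attribute [local instance] HasDerivedCategory.standard

namespace K977.DuSpec

open Groth.Agent Groth.Agent.CurvesC

variable (k : Type u) [CommRing k] [IsLocalRing k] [IsArtinianRing k]

variable {k} in
theorem unit_or_nilp (f : k) : IsUnit f ∨ IsNilpotent f := by
  by_cases h : IsUnit f
  · exact Or.inl h
  · right
    have h1 : f ∈ IsLocalRing.maximalIdeal k := (IsLocalRing.mem_maximalIdeal f).2 h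
    obtain ⟨n, hn⟩ := IsArtinianRing.isNilpotent_jacobson_bot (R := k)
    rw [IsLocalRing.jacobson_eq_maximalIdeal ⊥ bot_ne_top] at hn
    refine ⟨n, ?_⟩
    have h2 := Ideal.pow_mem_pow h1 n
    rw [hn] at h2
    exact h2

variable {k} in
theorem isLocalizing (N : TopCat.Sheaf (ModuleCat.{u} (CommRingCat.of k)) (Spec (CommRingCat.of k))) :
    IsLocalizing N := by
  intro f
  rcases unit_or_nilp (k := k) f with hf | hf
  · have hunit : IsUnit (f : (CommRingCat.of k)) := hf
    have htop : PrimeSpectrum.basicOpen (R := (CommRingCat.of k)) f = ⊤ := by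
      ext p
      simp only [SetLike.mem_coe, PrimeSpectrum.mem_basicOpen, Opens.coe_top, Set.mem_univ, iff_true]
      exact fun hp => p.isPrime.ne_top (Ideal.eq_top_of_isUnit_mem _ hp hunit)
    have hall : ∀ (U : Opens (Spec (CommRingCat.of k))), U = ⊤ → IsIso (N.obj.map U.leTop.op) := by
      intro U hU
      subst hU
      rw [Subsingleton.elim (Opens.leTop (⊤ : Opens (Spec (CommRingCat.of k)))) (𝟙 _)]
      infer_instance
    have hiso : IsIso (N.obj.map (PrimeSpectrum.basicOpen (R := (CommRingCat.of k)) f).leTop.op) :=
      hall _ htop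
    have hbij := ConcreteCategory.bijective_of_isIso
      (N.obj.map (PrimeSpectrum.basicOpen (R := (CommRingCat.of k)) f).leTop.op)
    refine ⟨fun x => ?_, fun y => ?_, fun {x₁ x₂} h => ⟨1, ?_⟩⟩
    · obtain ⟨x, n, rfl⟩ := x
      exact (hunit.pow n).map (algebraMap (CommRingCat.of k) _)
    · obtain ⟨x, hx⟩ := hbij.2 y
      exact ⟨(x, 1), by rw [one_smul]; exact hx.symm⟩
    · rw [hbij.1 h]
  · have hbot : PrimeSpectrum.basicOpen (R := (CommRingCat.of k)) f = ⊥ :=
      PrimeSpectrum.basicOpen_eq_bot_iff _ |>.2 hf
    have hterm : Limits.IsTerminal (N.obj.obj (op (PrimeSpectrum.basicOpen (R := (CommRingCat.of k)) f))) :=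
      N.isTerminalOfEqEmpty hbot
    have hsub : Subsingleton (N.obj.obj (op (PrimeSpectrum.basicOpen (R := (CommRingCat.of k)) f))) := by
      have hz : Limits.IsZero (N.obj.obj (op (PrimeSpectrum.basicOpen (R := (CommRingCat.of k)) f))) :=
        (Limits.isZero_zero _).of_iso (hterm.uniqueUpToIso (Limits.isZero_zero _).isTerminal)
      exact ModuleCat.subsingleton_of_isZero hz
    refine ⟨fun x => ?_, fun y => ⟨(0, 1), Subsingleton.elim _ _⟩, fun {x₁ x₂} _ => ?_⟩
    · rw [Module.End.isUnit_iff]
      exact ⟨fun a b _ => Subsingleton.elim _ _, fun a => ⟨0, Subsingleton.elim _ _⟩⟩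
    · obtain ⟨n, hn⟩ := hf
      refine ⟨⟨f ^ n, n, rfl⟩, ?_⟩
      change f ^ n • x₁ = f ^ n • x₂
      have hn' : (f : CommRingCat.of k) ^ n = 0 := hn
      rw [hn', zero_smul, zero_smul]

/-- Every `O_{Spec k}`-module is the tilde of its global sections. -/
instance isIso_fromTildeΓ (M : (Spec (CommRingCat.of k)).Modules) :
    IsIso (Scheme.Modules.fromTildeΓ (R := CommRingCat.of k) M) :=
  (isIso_fromTildeΓ_iff_isLocalizing M).2 (isLocalizing _)

instance essSurj_tilde : (tilde.functor (CommRingCat.of k)).EssSurj where
  mem_essImage M := isIso_fromTildeΓ_iff.1 (isIso_fromTildeΓ k M)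

instance isEquivalence_tilde : (tilde.functor (CommRingCat.of k)).IsEquivalence where
  faithful := tilde.fullyFaithfulFunctor.faithful
  full := tilde.fullyFaithfulFunctor.full
  essSurj := essSurj_tilde k

instance isEquivalence_Γ : (moduleSpecΓFunctor (R := CommRingCat.of k)).IsEquivalence :=
  (tilde.adjunction (R := CommRingCat.of k)).isEquivalence_right_of_isEquivalence_left

/-- Global sections of the structure sheaf of `Spec k`. -/
noncomputable def ΓunitIso : (moduleSpecΓFunctor (R := CommRingCat.of k)).obj
    (SheafOfModules.unit (Spec (CommRingCat.of k)).ringCatSheaf) ≅ ModuleCat.of (CommRingCat.of k) k :=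
  (tilde.isoTop (R := CommRingCat.of k) (ModuleCat.of (CommRingCat.of k) k)).symm

/-- The structure sheaf is injective if the ring is self-injective. -/
theorem injective_unit (hI : Module.Injective k k) :
    Injective (show (Spec (CommRingCat.of k)).Modules from
      SheafOfModules.unit (Spec (CommRingCat.of k)).ringCatSheaf) := by
  have h0 : Injective (ModuleCat.of (CommRingCat.of k) k) := by
    have : Module.Injective (CommRingCat.of k) (ModuleCat.of (CommRingCat.of k) k) := hI
    exact Module.injective_object_of_injective_module _ _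
  have h1 : Injective ((moduleSpecΓFunctor (R := CommRingCat.of k)).obj
      (SheafOfModules.unit (Spec (CommRingCat.of k)).ringCatSheaf)) := Injective.of_iso (ΓunitIso k).symm h0
  exact ((moduleSpecΓFunctor (R := CommRingCat.of k)).asEquivalence.map_injective_iff _).1 h1

/-- The structure sheaf is projective. -/
instance projective_unit : Projective (Coh.structureModule (Spec (CommRingCat.of k))) := by
  have h0 : Projective (ModuleCat.of (CommRingCat.of k) k) := by
    have : Module.Projective (CommRingCat.of k) k := inferInstanceAs (Module.Projective k k)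
    infer_instance
  have h1 : Projective ((moduleSpecΓFunctor (R := CommRingCat.of k)).obj
      (Coh.structureModule (Spec (CommRingCat.of k)))) := Projective.of_iso (ΓunitIso k).symm h0
  exact ((moduleSpecΓFunctor (R := CommRingCat.of k)).asEquivalence.map_projective_iff _).1 h1

/-- Maps of `O_{Spec k}`-modules into the structure sheaf are `k`-linear forms on global sections. -/
theorem Γmap_bijective (N : (Spec (CommRingCat.of k)).Modules) :
    Function.Bijective (fun φ : N ⟶ (show (Spec (CommRingCat.of k)).Modules from
        SheafOfModules.unit (Spec (CommRingCat.of k)).ringCatSheaf) =>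
      (moduleSpecΓFunctor (R := CommRingCat.of k)).map φ ≫ (ΓunitIso k).hom) := by
  have h1 : Function.Bijective (fun φ : N ⟶ (show (Spec (CommRingCat.of k)).Modules from
        SheafOfModules.unit (Spec (CommRingCat.of k)).ringCatSheaf) =>
      (moduleSpecΓFunctor (R := CommRingCat.of k)).map φ) :=
    ⟨Functor.map_injective _, Functor.map_surjective _⟩
  exact ((ΓunitIso k).homToEquiv).bijective.comp h1

/-- `Γ(Spec k, H^0 K)`. -/
noncomputable abbrev ΓH : DCoh.D (Spec (CommRingCat.of k)) ⥤ ModuleCat.{u} (CommRingCat.of k) :=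
  DerivedCategory.homologyFunctor (Spec (CommRingCat.of k)).Modules 0 ⋙
    moduleSpecΓFunctor (R := CommRingCat.of k)

omit [IsLocalRing k] [IsArtinianRing k] in
theorem eval_one_bijective (V : ModuleCat.{u} (CommRingCat.of k)) :
    Function.Bijective (fun ψ : ModuleCat.of (CommRingCat.of k) k ⟶ V => ψ.hom (1 : k)) := by
  constructor
  · intro a b hab
    apply ModuleCat.hom_ext
    exact LinearMap.ext_ring hab
  · intro y
    exact ⟨ModuleCat.ofHom (LinearMap.toSpanSingleton (CommRingCat.of k) V y), one_smul _ _⟩

/-- A module isomorphic to the structure sheaf represents the global sections. -/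
theorem exists_rep_of_iso (N : (Spec (CommRingCat.of k)).Modules)
    (e : N ≅ (show (Spec (CommRingCat.of k)).Modules from Coh.structureModule (Spec (CommRingCat.of k)))) :
    ∃ y : (moduleSpecΓFunctor (R := CommRingCat.of k)).obj N,
      ∀ M : (Spec (CommRingCat.of k)).Modules, Function.Bijective
        (fun φ : N ⟶ M => ((moduleSpecΓFunctor (R := CommRingCat.of k)).map φ).hom y) := by
  let e' : ModuleCat.of (CommRingCat.of k) k ≅ (moduleSpecΓFunctor (R := CommRingCat.of k)).obj N :=
    (ΓunitIso k).symm ≪≫ (moduleSpecΓFunctor (R := CommRingCat.of k)).mapIso e.symm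
  refine ⟨e'.hom.hom (1 : k), fun M => ?_⟩
  have h1 : Function.Bijective (fun φ : N ⟶ M => (moduleSpecΓFunctor (R := CommRingCat.of k)).map φ) :=
    ⟨Functor.map_injective _, Functor.map_surjective _⟩
  have h2 : Function.Bijective (fun ψ : (moduleSpecΓFunctor (R := CommRingCat.of k)).obj N ⟶
      (moduleSpecΓFunctor (R := CommRingCat.of k)).obj M => e'.hom ≫ ψ) := (e'.homFromEquiv).symm.bijective
  have h3 := eval_one_bijective k ((moduleSpecΓFunctor (R := CommRingCat.of k)).obj M)
  exact h3.comp (h2.comp h1)

/-- On the derived category of `Spec k`, the structure sheaf represents `K ↦ Γ(Spec k, H^0 K)`. -/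
theorem exists_rep : ∃ y : (ΓH k).obj (DCoh.inD (Spec (CommRingCat.of k))
      (Coh.structureModule (Spec (CommRingCat.of k)))),
    ∀ K : DCoh.D (Spec (CommRingCat.of k)), Function.Bijective
      (fun φ : DCoh.inD (Spec (CommRingCat.of k)) (Coh.structureModule (Spec (CommRingCat.of k))) ⟶ K =>
        ((ΓH k).map φ).hom y) := by
  let J := Coh.structureModule (Spec (CommRingCat.of k))
  let e' : DCoh.HD (DCoh.inD (Spec (CommRingCat.of k)) J) 0 ≅ J :=
    (DerivedCategory.homologyFunctorFactors _ 0).app _ ≪≫
      HomologicalComplex.singleObjHomologySelfIso (ComplexShape.up ℤ) 0 J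
  obtain ⟨y, hy⟩ := exists_rep_of_iso k _ e'
  refine ⟨y, fun K => ?_⟩
  exact (hy (DCoh.HD K 0)).comp (ProjRep.homologyFunctor_map_bijective J K 0)

end K977.DuSpec
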