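import Groth.Agent.DelIll.K977.DuRep
import Groth.Agent.CurvesC.Dual1

/-!
# The trace pairing for a right adjoint of `Rf_*` over the spectrum of a self-injective Artinian local ring

`exists_pair`: there is a form `τ` on `Hom_D(O_X, w)`, linear for the action of `k` on `O_X`, such that for all `K` in
`D_QCoh(X)` the map `φ ↦ (s ↦ τ (s ≫ φ))` is a bijection from `Hom_D(K, w)` onto the `k`-linear forms on
`Hom_D(O_X, K)`.
-/

set_option autoImplicit false
universe u

open CategoryTheory CategoryTheory.Limits AlgebraicGeometry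

attribute [local instance] HasDerivedCategory.standard

namespace K977.DuTrace

open Groth.Agent Groth.Agent.CurvesC K977.DuSpec K977.DuRep

section

variable {k : Type u} [CommRing k] [IsLocalRing k] [IsArtinianRing k] (hI : Module.Injective k k)
  {X : Scheme.{u}} (f : X ⟶ Spec (CommRingCat.of k))
  [DCoh.HasRpush f] (h : DCoh.RpushPreservesQCoh f) [DCoh.HasShriek f h]
  (OY : DCoh.DQCoh (Spec (CommRingCat.of k)))

include hI in
/-- Maps in `D(Spec k)` into an object isomorphic to the structure sheaf in degree zero are linear forms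
on the global sections of the cohomology sheaf in degree zero. -/
theorem bijective_of_iso (O : DCoh.D (Spec (CommRingCat.of k)))
    (e : O ≅ DCoh.inD (Spec (CommRingCat.of k)) (Coh.structureModule (Spec (CommRingCat.of k)))) :
    ∃ s : (moduleSpecΓFunctor (R := CommRingCat.of k)).obj (DCoh.HD O 0) ⟶
        ModuleCat.of (CommRingCat.of k) k,
      ∀ L : DCoh.D (Spec (CommRingCat.of k)), Function.Bijective (fun φ : L ⟶ O =>
        (moduleSpecΓFunctor (R := CommRingCat.of k)).map
          ((DerivedCategory.homologyFunctor (Spec (CommRingCat.of k)).Modules 0).map φ) ≫ s) := by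
  let J := Coh.structureModule (Spec (CommRingCat.of k))
  have hJ : Injective J := injective_unit k hI
  let e' : DCoh.HD (DCoh.inD (Spec (CommRingCat.of k)) J) 0 ≅ J :=
    (DerivedCategory.homologyFunctorFactors _ 0).app _ ≪≫
      HomologicalComplex.singleObjHomologySelfIso (ComplexShape.up ℤ) 0 J
  refine ⟨(moduleSpecΓFunctor (R := CommRingCat.of k)).map
      ((DerivedCategory.homologyFunctor (Spec (CommRingCat.of k)).Modules 0).map e.hom ≫ e'.hom) ≫
        (DuSpec.ΓunitIso k).hom, fun L => ?_⟩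
  have h1 : Function.Bijective (fun φ : L ⟶ O => φ ≫ e.hom) := e.homToEquiv.bijective
  have h2 := Dual1.homologyFunctor_map_bijective L J 0
  have h3 : Function.Bijective (fun φ : DCoh.HD L 0 ⟶ DCoh.HD (DCoh.inD (Spec (CommRingCat.of k)) J) 0 =>
    φ ≫ e'.hom) := e'.homToEquiv.bijective
  have h4 := DuSpec.Γmap_bijective k (DCoh.HD L 0)
  have h5 := h4.comp (h3.comp (h2.comp h1))
  convert h5 using 1
  funext φ
  simp only [Function.comp_apply]
  have h6 : (DerivedCategory.homologyFunctor (Spec (CommRingCat.of k)).Modules 0).map (φ ≫ e.hom) ≫ e'.hom =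
      (DerivedCategory.homologyFunctor (Spec (CommRingCat.of k)).Modules 0).map φ ≫
        (DerivedCategory.homologyFunctor (Spec (CommRingCat.of k)).Modules 0).map e.hom ≫ e'.hom := by
    rw [Functor.map_comp, Category.assoc]
  exact (Category.assoc _ _ _).symm.trans (congrArg (fun z => z ≫ (ΓunitIso k).hom)
    (((moduleSpecΓFunctor (R := CommRingCat.of k)).map_comp _ _).symm.trans
      (congrArg (moduleSpecΓFunctor (R := CommRingCat.of k)).map h6.symm)))

include hI in
/-- Perfectness of the trace pairing: a linear form `tr` on `Γ(Spec k, H^0(Rf_* w))` such that for every `K` in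
`D_QCoh(X)` the map `φ ↦ tr ∘ Γ(H^0(Rf_* φ))` from `Hom(K, w)` to the dual of `Γ(Spec k, H^0(Rf_* K))` is
bijective. -/
theorem exists_trace (hOY : Nonempty (OY.obj ≅ DCoh.inD (Spec (CommRingCat.of k))
      (Coh.structureModule (Spec (CommRingCat.of k))))) :
    ∃ tr : (moduleSpecΓFunctor (R := CommRingCat.of k)).obj
        (DCoh.HD ((DCoh.Rpush f).obj (DCoh.dualizingCx f h OY)) 0) ⟶ ModuleCat.of (CommRingCat.of k) k,
      ∀ K : DCoh.D X, DCoh.IsQCohD K → Function.Bijective (fun φ : K ⟶ DCoh.dualizingCx f h OY =>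
        (moduleSpecΓFunctor (R := CommRingCat.of k)).map
          ((DerivedCategory.homologyFunctor (Spec (CommRingCat.of k)).Modules 0).map
            ((DCoh.Rpush f).map φ)) ≫ tr) := by
  obtain ⟨e⟩ := hOY
  obtain ⟨s, hs⟩ := bijective_of_iso hI OY.obj e
  let c : (DCoh.RpushQ f h).obj ((DCoh.shriek f h).obj OY) ⟶ OY := (DCoh.shriekAdj f h).counit.app OY
  refine ⟨(moduleSpecΓFunctor (R := CommRingCat.of k)).map
      ((DerivedCategory.homologyFunctor (Spec (CommRingCat.of k)).Modules 0).map c.hom) ≫ s, fun K hK => ?_⟩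
  have h1 : Function.Bijective (fun φ : K ⟶ DCoh.dualizingCx f h OY =>
      (DCoh.Rpush f).map φ ≫ c.hom) := by
    let K' : DCoh.DQCoh X := ⟨K, hK⟩
    have h2 : Function.Bijective (fun φ : K' ⟶ (DCoh.shriek f h).obj OY =>
        ((DCoh.shriekAdj f h).homEquiv K' OY).symm φ) := Equiv.bijective _
    have h3 : Function.Bijective (fun φ : K ⟶ DCoh.dualizingCx f h OY =>
      (ObjectProperty.homMk φ : K' ⟶ (DCoh.shriek f h).obj OY)) :=
      ⟨fun a b hab => congrArg (fun z => z.hom) hab, ObjectProperty.homMk_surjective⟩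
    have h4 : Function.Bijective (fun φ : (DCoh.RpushQ f h).obj K' ⟶ OY => φ.hom) :=
      ⟨fun a b hab => ObjectProperty.hom_ext _ hab, fun b => ⟨ObjectProperty.homMk b, rfl⟩⟩
    have h5 := h4.comp (h2.comp h3)
    convert h5 using 1
    funext φ
    simp only [Function.comp_apply, Adjunction.homEquiv_counit]
    rfl
  have h5 := (hs ((DCoh.Rpush f).obj K)).comp h1
  convert h5 using 1
  funext φ
  simp only [Function.comp_apply, Functor.map_comp, Category.assoc]

end

section

variable (k : Type u) [CommRing k] (X : Scheme.{u}) [X.Over (Spec (CommRingCat.of k))]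

instance additive_Γ : (moduleSpecΓFunctor (R := CommRingCat.of k)).Additive :=
  ⟨fun {M N f g} => by ext x; rfl⟩

instance additive_ΓH : (ΓH k).Additive :=
  inferInstanceAs ((DerivedCategory.homologyFunctor (Spec (CommRingCat.of k)).Modules 0 ⋙
    moduleSpecΓFunctor (R := CommRingCat.of k)).Additive)

instance additive_Rpush [Flat (X ↘ Spec (CommRingCat.of k))] [DCoh.HasRpush (X ↘ Spec (CommRingCat.of k))] :
    (DCoh.Rpush (X ↘ Spec (CommRingCat.of k))).Additive := (adj k X).right_adjoint_additive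

instance additive_G [Flat (X ↘ Spec (CommRingCat.of k))] [DCoh.HasRpush (X ↘ Spec (CommRingCat.of k))] : (G k X).Additive :=
  inferInstanceAs ((DCoh.Rpush (X ↘ Spec (CommRingCat.of k)) ⋙ ΓH k).Additive)

theorem exists_hom {R : CommRingCat.{u}} {M N : ModuleCat.{u} R} (ψ : M →ₗ[R] N) :
    ∃ Ψ : M ⟶ N, ∀ y, Ψ.hom y = ψ y := ⟨ModuleCat.ofHom ψ, fun _ => rfl⟩

theorem hom_congr {R : CommRingCat.{u}} {M N : ModuleCat.{u} R} {a b : M ⟶ N} (h : a = b) (y : M) :
    a.hom y = b.hom y := by rw [h]

/-- `ψ` is linear for the action of `k` on `Hom(P, K)` through `P`. -/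
def IsLin {K : DCoh.D X} (ψ : (P X ⟶ K) →+ k) : Prop := ∀ (a : k) (s : P X ⟶ K), ψ (rho k X a ≫ s) = a * ψ s

theorem exists_pair [IsLocalRing k] [IsArtinianRing k] (hI : Module.Injective k k)
    [Flat (X ↘ Spec (CommRingCat.of k))] [DCoh.HasRpush (X ↘ Spec (CommRingCat.of k))]
    (h : DCoh.RpushPreservesQCoh (X ↘ Spec (CommRingCat.of k)))
    [DCoh.HasShriek (X ↘ Spec (CommRingCat.of k)) h]
    (OY : DCoh.DQCoh (Spec (CommRingCat.of k)))
    (hOY : Nonempty (OY.obj ≅ DCoh.inD (Spec (CommRingCat.of k))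
      (Coh.structureModule (Spec (CommRingCat.of k))))) :
    ∃ τ : (P X ⟶ DCoh.dualizingCx (X ↘ Spec (CommRingCat.of k)) h OY) →+ k,
      IsLin k X τ ∧ ∀ K : DCoh.D X, DCoh.IsQCohD K → ∀ ψ : (P X ⟶ K) →+ k, IsLin k X ψ →
        ∃! φ : K ⟶ DCoh.dualizingCx (X ↘ Spec (CommRingCat.of k)) h OY, ∀ s : P X ⟶ K, ψ s = τ (s ≫ φ) := by
  obtain ⟨tr, htr⟩ := exists_trace hI (X ↘ Spec (CommRingCat.of k)) h OY hOY
  obtain ⟨x, hx, hbij⟩ := exists_rep k X
  let W := DCoh.dualizingCx (X ↘ Spec (CommRingCat.of k)) h OY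
  let tr' : (G k X).obj W →ₗ[CommRingCat.of k] k := ModuleCat.Hom.hom tr
  let ev (K : DCoh.D X) : (P X ⟶ K) →+ (G k X).obj K :=
    { toFun := fun s => ((G k X).map s).hom x
      map_zero' := by rw [Functor.map_zero]; rfl
      map_add' := fun a b => by rw [Functor.map_add]; rfl }
  have hev : ∀ K, Function.Bijective (ev K) := hbij
  have hev_rho : ∀ K (a : k) (s : P X ⟶ K), ev K (rho k X a ≫ s) = a • ev K s := by
    intro K a s
    change ((G k X).map (rho k X a ≫ s)).hom x = a • ((G k X).map s).hom x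
    rw [Functor.map_comp]
    change ((G k X).map s).hom (((G k X).map (rho k X a)).hom x) = _
    rw [hx a]
    exact map_smul ((G k X).map s).hom a x
  have hev_comp : ∀ K (s : P X ⟶ K) (φ : K ⟶ W), ev W (s ≫ φ) = ((G k X).map φ).hom (ev K s) := by
    intro K s φ
    change ((G k X).map (s ≫ φ)).hom x = ((G k X).map φ).hom (((G k X).map s).hom x)
    rw [Functor.map_comp]
    rfl
  refine ⟨tr'.toAddMonoidHom.comp (ev W), fun a s => ?_, fun K hK ψ hψ => ?_⟩
  · change tr' (ev W (rho k X a ≫ s)) = a * tr' (ev W s)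
    rw [hev_rho]
    exact map_smul tr' a _
  · let E : (P X ⟶ K) ≃+ (G k X).obj K := AddEquiv.ofBijective (ev K) (hev K)
    let ψ' : (G k X).obj K →ₗ[CommRingCat.of k] k :=
      { toFun := fun y => ψ (E.symm y)
        map_add' := fun y z => by rw [map_add, map_add]
        map_smul' := fun a y => by
          have h1 : E.symm (a • y) = rho k X a ≫ E.symm y := by
            apply E.injective
            rw [AddEquiv.apply_symm_apply]
            change _ = ev K _
            rw [hev_rho]
            congr 1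
            exact (E.apply_symm_apply y).symm
          rw [h1, hψ]
          rfl }
    have key : ∃ Ψ, ∀ φ : K ⟶ W, (∀ s : P X ⟶ K, ψ s = tr'.toAddMonoidHom.comp (ev W) (s ≫ φ)) ↔
        (moduleSpecΓFunctor (R := CommRingCat.of k)).map
          ((DerivedCategory.homologyFunctor (Spec (CommRingCat.of k)).Modules 0).map
            ((DCoh.Rpush (X ↘ Spec (CommRingCat.of k))).map φ)) ≫ tr = Ψ := by
      obtain ⟨Ψ, hΨ⟩ := exists_hom (M := (G k X).obj K) (N := ModuleCat.of (CommRingCat.of k) k) ψ'
      refine ⟨Ψ, fun φ => ?_⟩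
      constructor
      · intro h1
        apply ModuleCat.hom_ext
        ext y
        obtain ⟨s, rfl⟩ := (hev K).2 y
        have h2 : ψ' (ev K s) = ψ s := congrArg ψ (E.symm_apply_apply s)
        refine Eq.trans ?_ ((hΨ _).trans h2).symm
        rw [h1 s]
        exact (congrArg tr' (hev_comp K s φ)).symm
      · intro h1 s
        have h2 : ψ' (ev K s) = ψ s := congrArg ψ (E.symm_apply_apply s)
        rw [← h2, ← hΨ]
        have h3 := hom_congr h1 (ev K s)
        refine h3.symm.trans ?_
        exact (congrArg tr' (hev_comp K s φ)).symm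
    obtain ⟨Ψ, key⟩ := key
    obtain ⟨φ, hφ⟩ := (htr K hK).2 Ψ
    refine ⟨φ, (key φ).2 hφ, fun φ' hφ' => (htr K hK).1 (((key φ').1 hφ').trans hφ.symm)⟩

end

end K977.DuTrace
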